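import Groth.Prelude.Def_EGA41
import Mathlib.RingTheory.Smooth.Local
import Mathlib.RingTheory.Smooth.Fiber
import Mathlib.RingTheory.Filtration
import Mathlib.RingTheory.LocalRing.MaximalIdeal.Basic
import Mathlib.RingTheory.EssentialFiniteness
import Mathlib.LinearAlgebra.TensorProduct.Quotient
import Mathlib.RingTheory.Etale.Kaehler

/-!
Adic formal smoothness of local algebras essentially of finite type.
-/

set_option autoImplicit false
set_option linter.style.haveILetI false
universe u

open IsLocalRing TensorProduct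

namespace Groth.Agent.AdicFS

variable (R S : Type u) [CommRing R] [IsLocalRing R] [CommRing S] [IsLocalRing S] [Algebra R S]

omit [IsLocalRing R] [IsLocalRing S] in
lemma adic_of_formallySmooth [Algebra.FormallySmooth R S] (𝔞 : Ideal R) (𝔟 : Ideal S) :
    EGA41.IsFormallySmoothAdic R 𝔞 S 𝔟 := fun _ _ _ J hJ _ u _ =>
  ⟨Algebra.FormallySmooth.lift J hJ u, Algebra.FormallySmooth.comp_lift J hJ u⟩

lemma one_tmul_eq_zero_iff {P k M : Type*} [CommRing P] [CommRing k] [Algebra P k] [AddCommGroup M]
    [Module P M] (hk : Function.Surjective (algebraMap P k)) (y : M) :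
    (1 : k) ⊗ₜ[P] y = 0 ↔ y ∈ RingHom.ker (algebraMap P k) • (⊤ : Submodule P M) := by
  let e := (Ideal.quotientKerAlgEquivOfSurjective (f := Algebra.ofId P k) hk).toLinearEquiv
  let q := TensorProduct.congr e (LinearEquiv.refl P M)
  have h1 : q (Ideal.Quotient.mk (RingHom.ker (Algebra.ofId P k)) 1 ⊗ₜ[P] y) =
      (1 : k) ⊗ₜ[P] y := by
    show e (Ideal.Quotient.mk (RingHom.ker (Algebra.ofId P k)) 1) ⊗ₜ[P] y = _
    congr 1
    exact map_one (Algebra.ofId P k)
  rw [← h1, map_eq_zero_iff _ q.injective,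
    ← map_eq_zero_iff _ (TensorProduct.quotTensorEquivQuotSMul M
      (RingHom.ker (Algebra.ofId P k))).injective,
    TensorProduct.quotTensorEquivQuotSMul_mk_tmul, one_smul, Submodule.Quotient.mk_eq_zero]
  rfl

lemma mem_mul_of_mem_smul [IsLocalHom (algebraMap R S)]
    (hS : EGA41.IsFormallySmoothAdic R (maximalIdeal R) S (maximalIdeal S))
    (P : Type u) [CommRing P] [IsLocalRing P] [IsNoetherianRing P] [Algebra R P] [Algebra P S]
    [IsScalarTower R P S] (hP : Function.Surjective (algebraMap P S))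
    (x : P) (hx : x ∈ RingHom.ker (algebraMap P S))
    (hdx : KaehlerDifferential.D R P x ∈ maximalIdeal P • (⊤ : Submodule P (Ω[P⁄R]))) :
    x ∈ maximalIdeal P * RingHom.ker (algebraMap P S) := by
  set J := RingHom.ker (algebraMap P S) with hJ
  set m := maximalIdeal P with hm
  have hJm : J ≤ m := IsLocalRing.le_maximalIdeal (RingHom.ker_ne_top _)
  haveI : IsLocalHom (algebraMap P S) := .of_surjective _ hP
  suffices h : ∀ k : ℕ, x ∈ m * J ⊔ m ^ k by
    by_contra hnot
    have hne : m * J ≠ ⊤ := fun h0 => Ideal.IsMaximal.ne_top (inferInstance : m.IsMaximal)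
      (top_le_iff.1 (h0 ▸ Ideal.mul_le_left))
    haveI : Nontrivial (P ⧸ m * J) := Ideal.Quotient.nontrivial_iff.2 hne
    haveI : IsLocalRing (P ⧸ m * J) :=
      .of_surjective' (Ideal.Quotient.mk _) Ideal.Quotient.mk_surjective
    have h1 := Ideal.iInf_pow_eq_bot_of_isLocalRing (m.map (Ideal.Quotient.mk (m * J))) (by
      intro h0
      have h2 := congrArg (Ideal.comap (Ideal.Quotient.mk (m * J))) h0
      rw [Ideal.comap_top, Ideal.comap_map_of_surjective _ Ideal.Quotient.mk_surjective,
        ← RingHom.ker_eq_comap_bot, Ideal.mk_ker, sup_eq_left.2 Ideal.mul_le_left] at h2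
      exact Ideal.IsMaximal.ne_top (inferInstance : m.IsMaximal) h2)
    refine hnot (Ideal.Quotient.eq_zero_iff_mem.1 (Ideal.mem_bot.1 (h1 ▸ ?_)))
    simp only [Submodule.mem_iInf]
    intro k
    have h2 := Ideal.mem_map_of_mem (Ideal.Quotient.mk (m * J)) (h k)
    rwa [Ideal.map_sup, Ideal.map_quotient_self, bot_sup_eq, Ideal.map_pow] at h2
  intro k
  let I := m * J ⊔ m ^ k
  let π : P →ₐ[R] P ⧸ I := Ideal.Quotient.mkₐ R I
  let J' : Ideal (P ⧸ I) := J.map (Ideal.Quotient.mk I)
  have hmJ : ∀ a ∈ m, ∀ b ∈ J', Ideal.Quotient.mk I a * b = 0 := by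
    intro a ha b hb
    obtain ⟨b, hb', rfl⟩ := (Ideal.mem_map_iff_of_surjective _ Ideal.Quotient.mk_surjective).1 hb
    rw [← map_mul, Ideal.Quotient.eq_zero_iff_mem]
    exact Ideal.mem_sup_left (Ideal.mul_mem_mul ha hb')
  have hJ2 : ∀ a ∈ J', ∀ b ∈ J', a * b = 0 := by
    intro a ha b hb
    obtain ⟨a, ha', rfl⟩ := (Ideal.mem_map_iff_of_surjective _ Ideal.Quotient.mk_surjective).1 ha
    exact hmJ a (hJm ha') b hb
  have hnil : IsNilpotent J' := ⟨2, by
    rw [sq, Ideal.zero_eq_bot, eq_bot_iff, Ideal.mul_le]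
    exact fun a ha b hb => Ideal.mem_bot.2 (hJ2 a ha b hb)⟩
  let π' : P →ₐ[R] (P ⧸ I) ⧸ J' := (Ideal.Quotient.mkₐ R J').comp π
  let e := Ideal.quotientKerAlgEquivOfSurjective (f := IsScalarTower.toAlgHom R P S) hP
  have hπ' : ∀ a ∈ RingHom.ker (IsScalarTower.toAlgHom R P S), π' a = 0 := fun a ha =>
    Ideal.Quotient.eq_zero_iff_mem.2 (Ideal.mem_map_of_mem _ ha)
  let u : S →ₐ[R] (P ⧸ I) ⧸ J' :=
    (Ideal.Quotient.liftₐ (RingHom.ker (IsScalarTower.toAlgHom R P S)) π' hπ').comp e.symm.toAlgHom
  have hu : ∀ p, u (algebraMap P S p) = π' p := fun p => by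
    show Ideal.Quotient.liftₐ (RingHom.ker (IsScalarTower.toAlgHom R P S)) π' hπ' (e.symm (algebraMap P S p)) = _
    rw [show algebraMap P S p = e (Ideal.Quotient.mk _ p) from rfl, e.symm_apply_apply]
    rfl
  obtain ⟨v, hv⟩ := hS (P ⧸ I) J' hnil ⟨k, by
      rw [eq_bot_iff, Ideal.map_le_iff_le_comap]
      intro r hr
      refine Ideal.mem_comap.2 (Ideal.mem_bot.2 ?_)
      show Ideal.Quotient.mk I (algebraMap R P r) = 0
      rw [Ideal.Quotient.eq_zero_iff_mem]
      refine Ideal.mem_sup_right ?_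
      have hle : (maximalIdeal R).map (algebraMap R P) ≤ m := by
        rw [Ideal.map_le_iff_le_comap]
        intro r hr hu'
        refine hr ((isUnit_map_iff (algebraMap R S) r).1 ?_)
        rw [IsScalarTower.algebraMap_apply R P S]
        exact hu'.map _
      have := Ideal.mem_map_of_mem (algebraMap R P) hr
      rw [Ideal.map_pow] at this
      exact Ideal.pow_right_mono hle k this⟩ u ⟨k, fun s hs => by
      rw [← IsLocalRing.map_maximalIdeal_of_surjective _ hP, ← Ideal.map_pow,
        Ideal.mem_map_iff_of_surjective _ hP] at hs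
      obtain ⟨p, hp, rfl⟩ := hs
      rw [hu]
      show Ideal.Quotient.mk J' (Ideal.Quotient.mk I p) = 0
      rw [Ideal.Quotient.eq_zero_iff_mem.2 (Ideal.mem_sup_right hp), map_zero]⟩
  let δ : P → P ⧸ I := fun p => v (algebraMap P S p) - π p
  have hδ : ∀ p, δ p ∈ J' := fun p => by
    refine (Ideal.Quotient.mk_eq_mk_iff_sub_mem _ _).1 ?_
    exact (AlgHom.congr_fun hv (algebraMap P S p)).trans (hu p)
  let D : Derivation R P (P ⧸ I) := Derivation.mk'
    (v.toLinearMap ∘ₗ (IsScalarTower.toAlgHom R P S).toLinearMap - π.toLinearMap) fun a b => by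
      show v (algebraMap P S (a * b)) - π (a * b) = π a * δ b + π b * δ a
      have h0 := hJ2 _ (hδ a) _ (hδ b)
      simp only [δ] at h0 ⊢
      rw [map_mul, map_mul, map_mul]
      linear_combination h0
  have hzero : ∀ ω ∈ m • (⊤ : Submodule P (Ω[P⁄R])), D.liftKaehlerDifferential ω = 0 := by
    intro ω hω
    refine Submodule.smul_induction_on hω (fun a ha ω hω' => ?_) (fun ω ω' h h' => by
      rw [map_add, h, h', add_zero])
    rw [map_smul]
    clear hω'
    have hmem : D.liftKaehlerDifferential ω ∈ J' := by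
      have htop : ω ∈ Submodule.span P (Set.range (KaehlerDifferential.D R P)) := by
        rw [KaehlerDifferential.span_range_derivation]; trivial
      induction htop using Submodule.span_induction with
      | mem _ h => obtain ⟨p, rfl⟩ := h; rw [Derivation.liftKaehlerDifferential_comp_D]; exact hδ p
      | zero => rw [map_zero]; exact J'.zero_mem
      | add _ _ _ _ h h' => rw [map_add]; exact J'.add_mem h h'
      | smul c _ _ h => rw [map_smul, Algebra.smul_def]; exact J'.mul_mem_left _ h
    exact hmJ a ha _ hmem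
  have h0 := hzero _ hdx
  rw [Derivation.liftKaehlerDifferential_comp_D] at h0
  have h1 : v (algebraMap P S x) - π x = 0 := h0
  rw [show algebraMap P S x = 0 from hx, map_zero, zero_sub, neg_eq_zero] at h1
  exact Ideal.Quotient.eq_zero_iff_mem.1 h1

omit [IsLocalRing R] in
lemma exists_presentation [IsNoetherianRing R] [Algebra.EssFiniteType R S] :
    ∃ (P : Type u) (_ : CommRing P) (_ : IsLocalRing P) (_ : IsNoetherianRing P) (_ : Algebra R P)
      (_ : Algebra P S) (_ : IsScalarTower R P S) (_ : Algebra.FormallySmooth R P)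
      (_ : Module.Free P Ω[P⁄R]) (_ : Module.Finite P Ω[P⁄R]),
      Function.Surjective (algebraMap P S) := by
  classical
  obtain ⟨s, hs⟩ := Algebra.EssFiniteType.cond (R := R) (S := S)
  let f₀ : MvPolynomial (↥s) R →ₐ[R] S := MvPolynomial.aeval fun i => (i : S)
  let q : Ideal (MvPolynomial (↥s) R) := (maximalIdeal S).comap f₀
  haveI : q.IsPrime := Ideal.IsPrime.comap f₀
  let P := Localization.AtPrime q
  have hunit : ∀ y : q.primeCompl, IsUnit (f₀ y) := fun y => by
    by_contra h
    exact y.2 h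
  let fP : P →ₐ[R] S := IsLocalization.liftAlgHom (M := q.primeCompl) (f := f₀) hunit
  letI : Algebra P S := fP.toRingHom.toAlgebra
  haveI : IsScalarTower R P S := .of_algebraMap_eq fun r => (fP.commutes r).symm
  haveI : Algebra.FormallyEtale (MvPolynomial (↥s) R) P := .of_isLocalization q.primeCompl
  haveI : Algebra.FormallySmooth R P := .comp _ (MvPolynomial (↥s) R) _
  haveI : Module.Free P Ω[P⁄R] :=
    .of_equiv (KaehlerDifferential.tensorKaehlerEquivOfFormallyEtale R (MvPolynomial (↥s) R) P)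
  haveI : Module.Finite P Ω[P⁄R] :=
    .equiv (KaehlerDifferential.tensorKaehlerEquivOfFormallyEtale R (MvPolynomial (↥s) R) P)
  haveI : IsNoetherianRing P := IsLocalization.isNoetherianRing q.primeCompl P inferInstance
  refine ⟨P, inferInstance, inferInstance, inferInstance, inferInstance, inferInstance, inferInstance,
    inferInstance, inferInstance, inferInstance, fun z => ?_⟩
  have hfA : ∀ a : Algebra.adjoin R (s : Set S), ∃ p, f₀ p = (a : S) := fun a => by
    have : (Algebra.adjoin R (s : Set S)) ≤ f₀.range := Algebra.adjoin_le fun y hy =>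
      ⟨MvPolynomial.X ⟨y, hy⟩, MvPolynomial.aeval_X _ _⟩
    exact this a.2
  obtain ⟨⟨a, b⟩, hab⟩ := IsLocalization.surj
    ((IsUnit.submonoid S).comap (algebraMap (Algebra.adjoin R (s : Set S)) S)) z
  obtain ⟨pa, hpa⟩ := hfA a
  obtain ⟨pb, hpb⟩ := hfA b.1
  have hpbq : pb ∈ q.primeCompl := fun h => by
    have hb : IsUnit ((b.1 : Algebra.adjoin R (s : Set S)) : S) := b.2
    rw [← hpb] at hb
    exact h hb
  refine ⟨IsLocalization.mk' P pa ⟨pb, hpbq⟩, ?_⟩
  show IsLocalization.lift hunit _ = z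
  rw [IsLocalization.lift_mk'_spec]
  show f₀ pa = f₀ pb * z
  rw [hpa, hpb, mul_comm]
  exact hab.symm

theorem formallySmooth_iff_adic [IsNoetherianRing R] [IsLocalHom (algebraMap R S)]
    [Algebra.EssFiniteType R S] :
    EGA41.IsFormallySmoothAdic R (maximalIdeal R) S (maximalIdeal S) ↔ Algebra.FormallySmooth R S := by
  refine ⟨fun h => ?_, fun _ => adic_of_formallySmooth R S _ _⟩
  obtain ⟨P, _, _, _, _, _, _, _, _, _, hP⟩ := exists_presentation R S
  haveI : IsLocalHom (algebraMap P S) := .of_surjective _ hP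
  rw [Algebra.FormallySmooth.iff_injective_cotangentComplexBaseChange_residueField P hP
    (IsNoetherian.noetherian _), injective_iff_map_eq_zero]
  intro z hz
  have hk : Function.Surjective (algebraMap P (ResidueField S)) :=
    residue_surjective.comp hP
  have hker : RingHom.ker (algebraMap P (ResidueField S)) = maximalIdeal P :=
    IsLocalRing.ker_eq_maximalIdeal _ hk
  obtain ⟨x, rfl⟩ := TensorProduct.mk_surjective P (RingHom.ker (algebraMap P S)) (ResidueField S) hk z
  simp only [TensorProduct.mk_apply] at hz ⊢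
  rw [KaehlerDifferential.cotangentComplexBaseChange_tmul] at hz
  have hdx : KaehlerDifferential.D R P x.1 ∈ maximalIdeal P • (⊤ : Submodule P (Ω[P⁄R])) := by
    rw [← hker, ← one_tmul_eq_zero_iff hk]
    simpa using hz
  have hmem := mem_mul_of_mem_smul R S h P hP x.1 x.2 hdx
  rw [one_tmul_eq_zero_iff hk, hker]
  rw [← smul_eq_mul] at hmem
  exact (Submodule.mem_smul_top_iff _ _ x).2 hmem

end Groth.Agent.AdicFS
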